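import Cfsg.Agent.Omega.NO3S.Fld.TrBest
import Cfsg.Agent.Omega.NO3S.Fld.WFour.Plug
import Cfsg.Agent.Omega.NO3S.Level.ThmD

/-!
# The maximal offenders of least rank

`M` acts on the elementary abelian group `W`.

* `MaxMin W M B` : `B` is a 2-subgroup of `M`, elementary abelian mod `C(W)`, moves `W`; `f(B) = |B : C_B(W)| |C_W(B)|`
  is maximal, and `|B : C_B(W)|` is minimal among those with `f` maximal;
* `exists_maxMin`, `MaxMin.cj`;
* `MaxMin.best`, `MaxMin.off` : `|Y : C_Y(B)| ≤ |B : C_B(Y)|` for all `Y ≤ W`;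
* `MaxMin.quad` : `B` is quadratic on `W` (`W, B ≤ T`, `T` a 2-group);
* `MaxMin.minOff` : if `B` moves `V ≤ W` and is no over-offender on `V`, then there is no over-offender on `W` and
  `B` is a minimal offender;
* `MaxMin.o5` : the hypothesis of the one-offender theorem (`q = 4`).
-/

set_option autoImplicit false
set_option linter.unusedSectionVars false

namespace Cfsg.Agent.Omega.NO3S.RedC

open Subgroup Cfsg Cfsg.Agent.ZN Cfsg.Agent.ZN.ChoiceBase Cfsg.Agent.Omega.MinPar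
open Cfsg.Agent.Omega.FFThm (OffM ElemM NoOverM)
open Cfsg.Agent.Omega.NO1.BestOff (Best)
open Cfsg.Agent.Omega.NO3S.Level (MinOff off_of_fM)
open Cfsg.Agent.Omega.NO3S.Fld (tr tr_le tr_best' mem_cent_tr comm_bot)
open Cfsg.Agent.Omega.NO3S.Fld.WFour (O5)
open Cfsg.Agent.Omega.NO3b.EZero (cl cent_symm)
open Cfsg.Agent.Omega.SQ1.Bau (mem_sup_comm)
open Cfsg.Agent.Omega.NOThreeL.VF (fM fM_le fM_cj fM_of_le le_fM_iff fM_le_iff fM_mul exists_two card_eq_rel
  fM_congr elemM_cj elemM_mono)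
open scoped commutatorElement

universe u

variable {G : Type u} [Group G] [Finite G] {W V M B T : Subgroup G}

/-- `f(B)` maximal, then `|B : C_B(W)|` minimal. -/
structure MaxMin (W M B : Subgroup G) : Prop where
  le : B ≤ M
  pg : IsPGroup 2 B
  elem : ElemM W B
  ne : ¬ B ≤ centralizer (W : Set G)
  max : ∀ D ≤ M, IsPGroup 2 D → ElemM W D → fM W D ≤ fM W B
  min : ∀ D ≤ M, IsPGroup 2 D → ElemM W D → ¬ D ≤ centralizer (W : Set G) → fM W B ≤ fM W D →
    (centralizer (W : Set G)).relIndex B ≤ (centralizer (W : Set G)).relIndex D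

theorem exists_maxMin (hMW : M ≤ normalizer (W : Set G)) (hoff : ∃ A ≤ M, OffM W A) : ∃ B, MaxMin W M B := by
  classical
  let 𝒞 : Set (Subgroup G) := {B | B ≤ M ∧ IsPGroup 2 B ∧ ElemM W B ∧ ¬ B ≤ centralizer (W : Set G)}
  obtain ⟨A₀, hA₀M, hA₀⟩ := hoff
  obtain ⟨B₀, hB, hB2, h⟩ := exists_two (hA₀M.trans hMW) hA₀.toElemM
  have hB₀ : B₀ ∈ 𝒞 := ⟨hB.trans hA₀M, hB2, elemM_mono hA₀.toElemM hB, fun h1 => hA₀.ne fun a ha => by
    obtain ⟨b, hb, hab⟩ := h a ha
    have h2 := mul_mem (h1 hb) hab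
    have e : b * (b⁻¹ * a) = a := by group
    rwa [e] at h2⟩
  have hf₀ : Nat.card W ≤ fM W B₀ := by
    rw [fM_congr hB h]
    exact le_fM_iff.2 hA₀.le
  obtain ⟨B₁, hB₁, hmax⟩ := Set.exists_max_image 𝒞 (fM W) (Set.toFinite _) ⟨B₀, hB₀⟩
  obtain ⟨B, ⟨hB, hBf⟩, hmin⟩ := Set.exists_min_image {B | B ∈ 𝒞 ∧ fM W B = fM W B₁}
    (fun B => (centralizer (W : Set G)).relIndex B) (Set.toFinite _) ⟨B₁, hB₁, rfl⟩
  refine ⟨B, hB.1, hB.2.1, hB.2.2.1, hB.2.2.2, fun D hD hD2 hE => ?_, fun D hD hD2 hE hne hf => ?_⟩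
  · by_cases hne : D ≤ centralizer (W : Set G)
    · rw [fM_of_le hne, hBf]
      exact hf₀.trans (hmax B₀ hB₀)
    · rw [hBf]
      exact hmax D ⟨hD, hD2, hE, hne⟩
  · have hDC : D ∈ 𝒞 := ⟨hD, hD2, hE, hne⟩
    exact hmin D ⟨hDC, le_antisymm (hmax D hDC) (hBf ▸ hf)⟩

namespace MaxMin

variable (m : MaxMin W M B)
include m

theorem cj {g : G} (hg : g ∈ M) (hM : M ≤ normalizer (W : Set G)) : MaxMin W M (ChoiceBase.cj g B) where
  le := by
    have h1 := cj_mono g m.le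
    rwa [cj_eq_of_mem_normalizer (le_normalizer hg)] at h1
  pg := isPGroup_cj g m.pg
  elem := elemM_cj (hM hg) m.elem
  ne := fun h => m.ne (by
    have h2 := cj_mono g⁻¹ h
    rw [cj_inv_cj, cj_centralizer, cj_eq_of_mem_normalizer (inv_mem (hM hg))] at h2
    exact h2)
  max := fun D hD hD2 hE => by
    rw [(fM_cj (A := B) (hM hg)).1]
    exact m.max D hD hD2 hE
  min := fun D hD hD2 hE hne hf => by
    rw [(fM_cj (A := B) (hM hg)).2]
    rw [(fM_cj (A := B) (hM hg)).1] at hf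
    exact m.min D hD hD2 hE hne hf

theorem best : Best W B where
  toElemM := m.elem
  max := fun Y hY hc => by
    have e : Y ⊓ centralizer (W : Set G) = B ⊓ centralizer (W : Set G) :=
      le_antisymm (inf_le_inf_right _ hY) (le_inf hc inf_le_right)
    have h1 := m.max Y (hY.trans m.le) (m.pg.to_le hY) (elemM_mono m.elem hY)
    rw [← fM_mul, ← fM_mul, e]
    exact Nat.mul_le_mul_right _ h1

/-- `B' ≤ B`, `C_B(W) ≤ B'`, `|B'| |C_W(B')| = |B| |C_W(B)|` ⟹ `B' = B` or `B' ≤ C(W)` -/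
theorem eq_or {Y : Subgroup G} (hY : Y ≤ B) (hc : B ⊓ centralizer (W : Set G) ≤ Y)
    (he : Nat.card B * Nat.card ↥(W ⊓ centralizer (B : Set G)) ≤ Nat.card Y * Nat.card ↥(W ⊓ centralizer (Y : Set G))) :
    Y = B ∨ Y ≤ centralizer (W : Set G) := by
  by_contra hcon
  push Not at hcon
  have e : Y ⊓ centralizer (W : Set G) = B ⊓ centralizer (W : Set G) :=
    le_antisymm (inf_le_inf_right _ hY) (le_inf hc inf_le_right)
  have h1 : fM W B ≤ fM W Y := by
    rw [← fM_mul, ← fM_mul, e] at he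
    exact Nat.le_of_mul_le_mul_right he Nat.card_pos
  have h2 := m.min Y (hY.trans m.le) (m.pg.to_le hY) (elemM_mono m.elem hY) hcon.2 h1
  apply hcon.1
  refine Subgroup.eq_of_le_of_card_ge hY ?_
  rw [card_eq_rel W B, card_eq_rel W Y, e]
  exact Nat.mul_le_mul_right _ h2

/-- `|Y : C_Y(B)| ≤ |B : C_B(Y)|` for all `Y ≤ W` -/
theorem off (hWc : W ≤ centralizer (W : Set G)) {Y : Subgroup G} (hY : Y ≤ W) :
    (centralizer (B : Set G)).relIndex Y ≤ (centralizer (Y : Set G)).relIndex B := by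
  refine FFThm.relIndex_le_iff.1 ?_
  have h1 := m.best.max (B ⊓ centralizer (Y : Set G)) inf_le_left (le_inf inf_le_left
    (inf_le_right.trans (centralizer_le hY)))
  have h2 : Y ⊔ (W ⊓ centralizer (B : Set G)) ≤
      W ⊓ centralizer ((B ⊓ centralizer (Y : Set G) : Subgroup G) : Set G) :=
    sup_le (le_inf hY (cent_symm inf_le_right)) (inf_le_inf_left _ (centralizer_le inf_le_left))
  have h3 := Subgroup.card_le_of_le h2
  have hcom : ∀ x ∈ Y, ∀ y ∈ W ⊓ centralizer (B : Set G), x * y = y * x := fun x hx y hy =>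
    mem_centralizer_iff.1 (hWc hy.1) x (hY hx)
  have h4 := SQ1.Bau.card_sup_comm hcom
  have h5 : Y ⊓ (W ⊓ centralizer (B : Set G)) = Y ⊓ centralizer (B : Set G) := by
    rw [← inf_assoc, inf_eq_left.2 hY]
  rw [h5] at h4
  have p1 : 0 < Nat.card ↥(W ⊓ centralizer (B : Set G)) := Nat.card_pos
  refine Nat.le_of_mul_le_mul_right (c := Nat.card ↥(W ⊓ centralizer (B : Set G))) ?_ p1
  calc Nat.card Y * Nat.card ↥(B ⊓ centralizer (Y : Set G)) * Nat.card ↥(W ⊓ centralizer (B : Set G))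
      = Nat.card ↥(B ⊓ centralizer (Y : Set G)) * (Nat.card Y * Nat.card ↥(W ⊓ centralizer (B : Set G))) := by ring
    _ = Nat.card ↥(B ⊓ centralizer (Y : Set G)) * (Nat.card ↥(Y ⊔ (W ⊓ centralizer (B : Set G))) *
          Nat.card ↥(Y ⊓ centralizer (B : Set G))) := by rw [h4]
    _ ≤ Nat.card ↥(B ⊓ centralizer (Y : Set G)) *
          (Nat.card ↥(W ⊓ centralizer ((B ⊓ centralizer (Y : Set G) : Subgroup G) : Set G)) *
          Nat.card ↥(Y ⊓ centralizer (B : Set G))) := Nat.mul_le_mul_left _ (Nat.mul_le_mul_right _ h3)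
    _ = (Nat.card ↥(B ⊓ centralizer (Y : Set G)) *
          Nat.card ↥(W ⊓ centralizer ((B ⊓ centralizer (Y : Set G) : Subgroup G) : Set G))) *
          Nat.card ↥(Y ⊓ centralizer (B : Set G)) := by ring
    _ ≤ (Nat.card B * Nat.card ↥(W ⊓ centralizer (B : Set G))) * Nat.card ↥(Y ⊓ centralizer (B : Set G)) :=
        Nat.mul_le_mul_right _ h1
    _ = _ := by ring

/-- **`B` is quadratic on `W`.** -/
theorem quad (hWc : W ≤ centralizer (W : Set G)) (hT : IsPGroup 2 T) (hWT : W ≤ T) (hBT : B ≤ T)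
    (hMW : M ≤ normalizer (W : Set G)) {w b : G} (hw : w ∈ W) (hb : b ∈ B) :
    b * w * b⁻¹ * w⁻¹ ∈ centralizer (B : Set G) := by
  by_contra hcon
  have hXc : ∀ x ∈ W, ∀ y ∈ W, x * y = y * x := fun x hx y hy => mem_centralizer_iff.1 (hWc hy) x hx
  have hAn : B ≤ normalizer (W : Set G) := m.le.trans hMW
  obtain ⟨h1, h2, h2'⟩ := tr_best' hXc hAn m.best hw
  have h3 : ¬ B ≤ centralizer (tr B w : Set G) := fun h0 =>
    hcon ((mem_cent_tr hXc hAn m.elem hw hb).1 (h0 hb))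
  have h5 : B ⊓ centralizer (tr B w : Set G) ≤ centralizer (W : Set G) := by
    refine (m.eq_or inf_le_left (le_inf inf_le_left ?_) h2').resolve_left fun h0 => h3 (inf_eq_left.1 h0)
    exact inf_le_right.trans (centralizer_le (tr_le hAn hw))
  have h6 : W ≤ tr B w ⊔ (W ⊓ centralizer (B : Set G)) := by
    rw [← h2]
    exact le_inf le_rfl (cent_symm h5)
  have htU : tr B w ≤ ⁅W, B⁆ := by
    rw [tr, closure_le]
    rintro _ ⟨a, ha, rfl⟩
    rw [commutator_comm]
    exact commutator_mem_commutator ha hw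
  have h7 : ⁅W, B⁆ ≤ ⁅⁅W, B⁆, B⁆ := by
    rw [commutator_le]
    intro x hx a ha
    have hcom : ∀ x ∈ tr B w, ∀ y ∈ W ⊓ centralizer (B : Set G), x * y = y * x :=
      fun x hx y hy => hXc x (tr_le hAn hw hx) y hy.1
    obtain ⟨t, ht, e, he, rfl⟩ := mem_sup_comm hcom (h6 hx)
    have h8 := mem_centralizer_iff.1 he.2 a ha
    have e' : ⁅t * e, a⁆ = ⁅t, a⁆ := by
      rw [commutatorElement_def, commutatorElement_def]
      have e1 : t * e * a * (t * e)⁻¹ * a⁻¹ = t * (e * a * e⁻¹) * t⁻¹ * a⁻¹ := by group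
      rw [e1, ← h8, mul_inv_cancel_right]
    rw [e']
    exact commutator_mem_commutator (htU ht) ha
  have h8 := comm_bot hT.isNilpotent hWT hBT h7
  exact m.ne (cent_symm (commutator_eq_bot_iff_le_centralizer.1 h8))

/-- If `B` moves `V ≤ W` and is no over-offender on `V`, then there is no over-offender on `W`, and `B` is a minimal
offender. -/
theorem minOff (hMW : M ≤ normalizer (W : Set G)) (hVW : V ≤ W)
    (hno : Nat.card B * Nat.card ↥(V ⊓ centralizer (B : Set G)) ≤ Nat.card V * Nat.card ↥(B ⊓ centralizer (V : Set G)))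
    (hne : ¬ B ≤ centralizer (V : Set G)) : NoOverM W M ∧ MinOff W M B := by
  have hle := fM_le hVW hno
  set A₁ : Subgroup G := B ⊓ centralizer (V : Set G) with hA₁
  have hA₁V : A₁ ≤ centralizer (W : Set G) := by
    by_contra hcon
    have h3 := m.min A₁ (inf_le_left.trans m.le) (m.pg.to_le inf_le_left) (elemM_mono m.elem inf_le_left) hcon hle
    have e4 : A₁ ⊓ centralizer (W : Set G) = B ⊓ centralizer (W : Set G) := by
      rw [hA₁, inf_assoc, inf_eq_right.2 (centralizer_le (s := (V : Set G)) hVW)]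
    have h4 : Nat.card B ≤ Nat.card A₁ := by
      rw [card_eq_rel W B, card_eq_rel W A₁, e4]
      exact Nat.mul_le_mul_right _ h3
    have h5 : A₁ = B := Subgroup.eq_of_le_of_card_ge inf_le_left h4
    exact hne (inf_eq_left.1 h5)
  have hfB : fM W B ≤ Nat.card W := by
    rw [← fM_of_le hA₁V]
    exact hle
  have hBf : Nat.card W ≤ fM W B := by
    have h1 := m.max ⊥ bot_le IsPGroup.of_bot ⟨by simp, by simp⟩
    rwa [fM_of_le bot_le] at h1
  refine ⟨fun D hD hE => ?_, m.le, m.pg, off_of_fM m.elem m.ne hBf, fun D hD hD2 hDo => ?_⟩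
  · rw [← fM_le_iff]
    obtain ⟨D', h1, h2, h3⟩ := exists_two (hD.trans hMW) hE
    rw [← fM_congr h1 h3]
    exact (m.max D' (h1.trans hD) h2 (elemM_mono hE h1)).trans hfB
  · exact m.min D hD hD2 hDo.toElemM hDo.ne (hfB.trans (le_fM_iff.2 hDo.le))

end MaxMin

/-- **the hypothesis of the one-offender theorem** -/
theorem MaxMin.o5 {S : Sylow 2 G} {P P2 : Subgroup G} (m : MaxMin W M B) (hWc : W ≤ centralizer (W : Set G))
    (hMW : M ≤ normalizer (W : Set G)) (hWS : W ≤ (S : Subgroup G)) (hBS : B ≤ (S : Subgroup G))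
    (hU : cl (zl (S : Subgroup G) P) P2 ≤ W) (hn : ¬ B ≤ o2 P2) : O5 S P P2 B where
  le := hBS
  elem := ⟨fun a ha => centralizer_le hU (m.elem.sq a ha), fun a ha b hb => centralizer_le hU (m.elem.comm a ha b hb)⟩
  off := fun _ hY => m.off hWc (hY.trans hU)
  nQ := hn
  quad := fun _ hu _ ha => m.quad hWc S.isPGroup' hWS hBS hMW (hU hu) ha

end Cfsg.Agent.Omega.NO3S.RedC
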