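import Cfsg.Agent.Omega.NO3S.RedC.Single
import Cfsg.Agent.Omega.NO3S.Fld.LEnd
import Cfsg.Agent.Omega.NO3S.BetaFF.USix

/-!
# RED in the case (L) (helper284 #23199): the reduction to `Rx`

* `ns_R` : `N_G(S) ≤ N_G(R)` in the case (L);
* `jj_le` : `X ∈ P(S)`, `X ≤ C_G(Z)` moves `R` ⟹ `J(S) ≤ O₂(X)`;
* `cz_le_of` : `C_G(Z) ≤ N_G(R)` if there is no `Rx S P X M`.
-/

set_option autoImplicit false
set_option linter.unusedSectionVars false

namespace Cfsg.Agent.Omega.NO3S.RedC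

open Subgroup Cfsg Cfsg.Agent.ZN Cfsg.Agent.ZN.ChoiceBase Cfsg.Agent.Omega.MinPar Cfsg.Agent.Omega.Frame
open Cfsg.Agent.ZN.ChoiceSit (Syl)
open Cfsg.Agent.Omega.FrameNOFF
open Cfsg.Agent.MinSimple.VModule (oddGen oddGen_le zc_le_zl)
open Cfsg.Agent.Omega.NO3S.Level
open Cfsg.Agent.Omega.NO3S.Fld (Crd)

universe u

variable {G : Type u} [Group G] [Finite G] {S : Sylow 2 G} {P X : Subgroup G}
variable {F : Type*} [Field F] [Finite F] [CharP F 2]

theorem ns_R (h : CaseL S P) (M : Crd F (S : Subgroup G) P (zl (S : Subgroup G) P)) :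
    normalizer ((S : Subgroup G) : Set G) ≤ normalizer (M.R : Set G) :=
  Omega.BetaFF.ns_R M (h.norm_le (h.pss.par.isLoc.o2_le S) le_rfl)

theorem jj_le (h : CaseL S P) (M : Crd F (S : Subgroup G) P (zl (S : Subgroup G) P))
    (hZ : Nat.card (zc (S : Subgroup G)) ≠ Nat.card F) (par : IsPar (S : Subgroup G) X)
    (le : X ≤ CZ (S : Subgroup G)) (mv : ¬ X ≤ normalizer (M.R : Set G)) : jj (S : Subgroup G) ≤ o2 X := by
  by_contra hJ
  have hy := h.hypN.toHyp
  have hsyl : Syl (S : Subgroup G) X := ⟨par.le, S.isPGroup', fun _ _ hT hST => S.is_maximal' hT hST⟩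
  rcases Fld.card_four_or' hy M hZ with h4 | h16
  · obtain ⟨V3, z, hmod, hfix, hzS⟩ := Fld.exists_mod hy M h4 (by rwa [h4] at hZ)
    have hb : Fld.B4 S P X M.R V3 z :=
      { hyp := hy
        mod := hmod
        fix4 := hfix
        zS := hzS
        par := par
        le := le
        mv := mv
        soc := h.zc_eq
        ff := Fld.ff_of FF.Glob.aStmt par le hJ }
    exact hb.false_jj FF.Glob.aStmt (h.hj P h.pss.par) hJ
  · exact mv (Crd.norm_R hy M h16 (NO3b.K0.noOv FF.Glob.aStmt hsyl par.toIsMinPar) par.toIsMinPar le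
      (NO3b.K0.ff_lemma_syl par.toIsMinPar hJ le) hJ)

theorem cz_le_of (h : CaseL S P) (M : Crd F (S : Subgroup G) P (zl (S : Subgroup G) P))
    (hZ : Nat.card (zc (S : Subgroup G)) ≠ Nat.card F) (hX : ∀ X : Subgroup G, ¬ Rx S P X M) :
    CZ (S : Subgroup G) ≤ normalizer (M.R : Set G) := by
  refine (isLoc_centralizer_zc S h.hypN.toHyp.ne).le_of_forall S (inf_le_right.trans (ns_R h M))
    fun X par le => ?_
  by_contra mv
  exact hX X ⟨h, par, le, mv, jj_le h M hZ par le mv⟩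

end Cfsg.Agent.Omega.NO3S.RedC
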