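import Cfsg.Agent.Omega.NO3S.RedC.Frame
import Cfsg.Agent.Omega.NO3b.CTwoFF.End

/-!
# RED in the case (L) (helper284 #23199), (5), first half: bad subgroups exist

`Rx.exists_bad` : if `⟨Z^GX⟩` is not FF, then `Ω₁(Z(DX))` has a bad subgroup: otherwise `Ω₁(Z(DX)) ≤ O₂(C_G(Z))`, `GX` is
a root of the NotFF frame (`NFRoot`), and `CTwoFF.false_of_nfRoot` applies.
-/

set_option autoImplicit false

namespace Cfsg.Agent.Omega.NO3S.RedC

open Subgroup Cfsg Cfsg.Agent.ZN Cfsg.Agent.ZN.ChoiceBase Cfsg.Agent.Omega.MinPar Cfsg.Agent.Omega.Frame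
open Cfsg.Agent.Omega.FrameNOFF (CZ)

open Cfsg.Agent.Omega.NOThreeL.MergeNF (NFRoot)
open Cfsg.Agent.Omega.NO3S.Level
open Cfsg.Agent.Omega.NO3S.Fld (Crd)

universe u

variable {G : Type u} [Group G] [Finite G] {S : Sylow 2 G} {P X : Subgroup G} {F : Type*} [Field F]

namespace Rx

variable {M : Crd F (S : Subgroup G) P (zl (S : Subgroup G) P)} (h : Rx S P X M)
include h

theorem zc_ne : zc (S : Subgroup G) ≠ ⊥ := MinSimple.Basic.zc_ne_bot S.isPGroup' (h.cl.ctx.sylow_ne_bot S)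

theorem DX_ne : DX (S : Subgroup G) P X ≠ ⊥ := by
  intro h1
  apply h.zc_ne
  have h2 : zc (S : Subgroup G) ≤ DX (S : Subgroup G) P X := h.Z_le.trans (ZN.zc_le _)
  rw [h1] at h2
  exact le_bot_iff.1 h2

theorem DX_le_o2 : DX (S : Subgroup G) P X ≤ o2 (GX (S : Subgroup G) P X) :=
  MinSimple.VModule.le_o2 le_normalizer (S.isPGroup'.to_le (DX_le _ _ _)) le_rfl

theorem isLoc_GX : IsLoc (S : Subgroup G) (GX (S : Subgroup G) P X) := by
  refine ⟨S_le_GX _ _ _, fun h1 => h.DX_ne ?_⟩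
  have h2 := h.DX_le_o2
  rw [h1] at h2
  exact le_bot_iff.1 h2

/-- Without bad subgroups of `Ω₁(Z(DX))`, `GX` is a root. -/
theorem nfRoot (hn : NO3b.EZero.NotFF (zl (S : Subgroup G) (GX (S : Subgroup G) P X)))
    (hb : ¬ ∃ F₀, NOne.Flat.Bad (zc (DX (S : Subgroup G) P X)) F₀) :
    NFRoot (S : Subgroup G) (GX (S : Subgroup G) P X) where
  loc := h.isLoc_GX
  cs := by
    rw [h.cs_zl]
    exact h.DX_le_o2
  low := by
    refine h.zl_GX_le.trans ?_
    by_contra hcon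
    exact hb ⟨_, h.zc_ne, h.Z_le, hcon⟩
  nff := hn
  nonloc := fun U hU h1 h2 => h.cl.pss.nonLoc U hU (h.P_le.trans h1) h2

/-- **bad subgroups exist** -/
theorem exists_bad (hn : NO3b.EZero.NotFF (zl (S : Subgroup G) (GX (S : Subgroup G) P X))) :
    ∃ F₀, NOne.Flat.Bad (zc (DX (S : Subgroup G) P X)) F₀ := by
  by_contra hb
  exact NO3b.CTwoFF.false_of_nfRoot h.hG h.zc_ne (h.nfRoot hn hb) h.cl.pss.par h.cl.pss.nonLoc h.P_le
    (fun P' hP' => h.cl.par_le hP') (h.cl.ff P h.cl.pss)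

end Rx

end Cfsg.Agent.Omega.NO3S.RedC
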