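import Cfsg.Agent.Omega.NO3S.BetaFF.Three
import Cfsg.Agent.Omega.NO3S.BetaFF.FourA
import Cfsg.Agent.Omega.NO3S.Fld.LevBR
import Cfsg.Agent.Omega.NOne.Flat.Conj

/-!
# GammaFF, RED at `CaseL` and `FiveP` (helper284 #23199), section (6)

`Fr K S P V F L U` (BetaFF/Frame), `X ≥ S` normalises `V` and `U` and moves the root line `R` of `L`, `W_F ≤ O₂(X) ≤ S`,
`C_V(Q) ≤ L`, `|K| ≥ 4`: contradiction (`act_false`).

* `conjW_S`, `conjW_R` : `W^k ≤ S ∩ C(R)` for `k ∈ X`; `conjR_F` : `R^k ≤ F`;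
* `exists_u` : `u ∈ ⟨R^X⟩`, `u ∉ L`, `[u, S] ≤ R`;
* `conjL_F` : (a) `R^k ≠ R` ⟹ `L^k ≤ F`;
* `relIndex_two` : elementary abelian `A ≤ N_X(R^k)` : `|A : C_A(R^k)| ≤ 2`;
* `conjR_E` : (b) `R^k ≤ E^p`.
-/

set_option autoImplicit false

namespace Cfsg.Agent.Omega.NO3S.RedC

open Subgroup Cfsg Cfsg.Agent.Omega.NOne Cfsg.Agent.Omega.NO3S.Fld Cfsg.Agent.Omega.BetaFF
open Cfsg.Agent.Omega.NOne.Flat (conj_eq_of_norm conj_centralizer)
open Cfsg.Agent.Omega.NOne.NearFF (c c_def)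
open Cfsg.Agent.ZN (o2)
open Cfsg.Agent.MinSimple.VModule (le_normalizer_o2)
open Cfsg.Agent.Omega.NO3S.OneLine (exists_fixed)
open Cfsg.Agent.Omega.NoFF.Basic (V_le Z_le_V conj_le_iff conj_conj)
open scoped Pointwise

universe u

variable {K : Type*} [Field K] {G : Type u} [Group G] [Finite G] {S : Sylow 2 G} {P V F L U X : Subgroup G}

set_option maxHeartbeats 400000

omit [Finite G] in
theorem mem_norm_of_cj {g : G} {Y : Subgroup G} (h : MulAut.conj g • Y = Y) : g ∈ normalizer (Y : Set G) := by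
  rw [mem_normalizer_iff]
  intro x
  have e : g⁻¹ * (g * x * g⁻¹) * g = x := by group
  constructor
  · intro hx
    have h1 := cj_mem_cj (g := g) hx
    rwa [h] at h1
  · intro hx
    rw [← h] at hx
    have h1 := mem_cj.1 hx
    rwa [e] at h1

/-- The situation. -/
structure Sit (h : Fr K S P V F L U) (X : Subgroup G) : Prop where
  SX : (S : Subgroup G) ≤ X
  XV : X ≤ normalizer (V : Set G)
  XU : X ≤ normalizer (U : Set G)
  WX : Flat.WW V F ≤ o2 X
  oX : o2 X ≤ (S : Subgroup G)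

namespace Sit

variable {h : Fr K S P V F L U} (s : Sit h X)
include s

theorem conjW_S {k : G} (hk : k ∈ X) : MulAut.conj k • Flat.WW V F ≤ (S : Subgroup G) := by
  have h1 : MulAut.conj k • Flat.WW V F ≤ MulAut.conj k • o2 X := conj_le_iff.2 s.WX
  rw [conj_eq_of_norm (le_normalizer_o2 X hk)] at h1
  exact h1.trans s.oX

theorem hyp {k : G} (hk : k ∈ X) : Flat.Hyp V (MulAut.conj k • F) := h.hyp.conj (s.XV hk)

theorem conjW {k : G} (hk : k ∈ X) : MulAut.conj k • Flat.WW V F = Flat.WW V (MulAut.conj k • F) := Flat.WW_conj (s.XV hk)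

theorem conjVU {k : G} (hk : k ∈ X) : MulAut.conj k • (V ⊓ U) = V ⊓ U := by
  rw [Subgroup.smul_inf, conj_eq_of_norm (s.XV hk), conj_eq_of_norm (s.XU hk)]

theorem conjL_VU {k : G} (hk : k ∈ X) : MulAut.conj k • L ≤ V ⊓ U := by
  rw [← s.conjVU hk]
  exact conj_le_iff.2 h.L_le_VU

theorem L_le_E {k : G} (hk : k ∈ X) : L ≤ Flat.EE V (MulAut.conj k • F) := by
  have h1 : MulAut.conj k • (V ⊓ U) ≤ MulAut.conj k • Flat.EE V F := conj_le_iff.2 h.VU_le_E
  rw [s.conjVU hk, Flat.EE_conj (s.XV hk)] at h1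
  exact h.L_le_VU.trans h1

theorem conjW_R [Finite K] [CharP K 2] {k : G} (hk : k ∈ X) : MulAut.conj k • Flat.WW V F ≤ centralizer (h.M.R : Set G) := by
  have hf := s.hyp hk
  have hE := s.L_le_E hk
  have h0 := s.conjW_S hk
  rw [s.conjW hk] at h0 ⊢
  have hEl : FFThm.ElemM L (Flat.WW V (MulAut.conj k • F)) :=
    ⟨fun a ha => centralizer_le (hE.trans inf_le_left) (hf.elemM_W.sq a ha),
      fun a ha b hb => centralizer_le (hE.trans inf_le_left) (hf.elemM_W.comm a ha b hb)⟩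
  exact h.M.off_le_centR h0 hEl (FFThm.relIndex_le_iff.2 (hf.off_of_le_all hE))

/-- `R^k ≤ F` -/
theorem conjR_F [Finite K] [CharP K 2] {k : G} (hk : k ∈ X) : MulAut.conj k • h.M.R ≤ F := by
  have hV : MulAut.conj k • h.M.R ≤ V := by
    have h1 : MulAut.conj k • h.M.R ≤ MulAut.conj k • V := conj_le_iff.2 h.R_le_V
    rwa [conj_eq_of_norm (s.XV hk)] at h1
  refine (le_inf hV ?_).trans h.hyp.cent_VW.le
  rw [le_centralizer_iff, ← conj_centralizer]
  have h1 := conj_le_iff (g := k) |>.2 (s.conjW_R (inv_mem hk))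
  rwa [conj_conj, mul_inv_cancel, map_one, one_smul] at h1

/-- `u ∈ ⟨R^X⟩`, `u ∉ L`, `[u, S] ≤ R` -/
theorem exists_u [Finite K] [CharP K 2] (mv : ¬ X ≤ normalizer (h.M.R : Set G)) :
    ∃ v ∈ NoFF.Basic.V h.M.R X, v ∈ V ∧ v ∉ L ∧ ∀ t ∈ (S : Subgroup G), c v t ∈ h.M.R := by
  set Y := NoFF.Basic.V h.M.R X with hY
  have hYF : Y ≤ F := V_le fun k hk => s.conjR_F hk
  have hYS : Y ≤ (S : Subgroup G) := (hYF.trans (h.hyp.F_le_E.trans NOne.Flat.Hyp.E_le_W)).trans h.WS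
  have hkey : ∀ g ∈ X, MulAut.conj g • Y ≤ Y := by
    intro g hg
    have h1 : Y ≤ MulAut.conj g⁻¹ • Y := by
      refine V_le fun k hk => ?_
      have h2 : MulAut.conj (g * k) • h.M.R ≤ Y := Z_le_V (mul_mem hg hk)
      have h3 := conj_le_iff (g := g⁻¹) |>.2 h2
      rwa [conj_conj, inv_mul_cancel_left] at h3
    have h2 := conj_le_iff (g := g) |>.2 h1
    rwa [conj_conj, mul_inv_cancel, map_one, one_smul] at h2
  have hYn : (S : Subgroup G) ≤ normalizer (Y : Set G) := by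
    intro g hg
    have hgX := s.SX hg
    refine mem_norm_of_cj ?_
    exact Subgroup.eq_of_le_of_card_ge (hkey g hgX) (card_cj _ _).ge
  have hne : ¬ Y ≤ h.M.R := by
    intro hle
    apply mv
    intro g hg
    refine mem_norm_of_cj ?_
    exact Subgroup.eq_of_le_of_card_ge ((Z_le_V hg).trans hle) (card_cj _ _).ge
  obtain ⟨y, hy, hyR, hys⟩ := exists_fixed (M := h.M.R) S.isPGroup' hYS hYn hne
  refine ⟨y, hy, h.hyp.F_le_V (hYF hy), fun hyL => hyR ?_, fun t ht => ?_⟩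
  · rw [← SetLike.mem_coe, ← h.L_inf_F]
    exact ⟨hyL, hYF hy⟩
  · have h1 := inv_mem (hys t ht)
    have e : c y t = (t * y * t⁻¹ * y⁻¹)⁻¹ := by rw [c]; group
    rwa [e]

/-- **(a)** `R^k ≠ R` ⟹ `L^k ≤ F` -/
theorem conjL_F [Finite K] [CharP K 2] (hVU : V ⊓ U ≤ L ⊔ F) {k : G} (hk : k ∈ X)
    (hne : MulAut.conj k • h.M.R ≠ h.M.R) : MulAut.conj k • L ≤ F := by
  have hLV := s.conjL_VU hk
  refine (le_inf (hLV.trans inf_le_left) ?_).trans h.hyp.cent_VW.le
  rw [le_centralizer_iff]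
  by_contra hcon
  obtain ⟨w, hw, hwL⟩ := SetLike.not_le_iff_exists.1 hcon
  apply hne
  -- `w' = k⁻¹ w k` is a root element
  have hw' : k⁻¹ * w * k ∈ MulAut.conj k⁻¹ • Flat.WW V F := by
    have := cj_mem_cj (g := k⁻¹) hw
    rwa [inv_inv] at this
  have hwS := s.conjW_S (inv_mem hk) hw'
  have hwR := s.conjW_R (inv_mem hk) hw'
  have hwL' : k⁻¹ * w * k ∉ centralizer (L : Set G) := by
    intro h1
    apply hwL
    rw [← conj_centralizer]
    exact mem_cj.2 h1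
  obtain ⟨a, ha⟩ := h.M.exists_root hwS hwR
  have ha0 : a ≠ 0 := fun h0 => hwL' (ha.mem_centV.2 ⟨rfl, h0⟩)
  have hle : MulAut.conj k • h.M.R ≤ h.M.R := by
    intro z hz
    obtain ⟨b, hb⟩ := mem_cj.1 hz
    -- `z^k = [w', e(0, b/a)]`
    have h1 := ha ![0, b / a]
    have h2 : (![(RingEquiv.refl K) ((![0, b / a] : Fin 2 → K) 0) + a * (RingEquiv.refl K) ((![0, b / a] : Fin 2 → K) 1),
        (RingEquiv.refl K) ((![0, b / a] : Fin 2 → K) 1)] : Fin 2 → K) = ![b, 0] + ![0, b / a] := by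
      apply NatPair.ext2
      · simp [mul_div_cancel₀, ha0]
      · simp
    rw [h2, h.M.e_add] at h1
    set l := h.M.e ![0, b / a] with hl
    have h3 : k * l * k⁻¹ ∈ L ⊔ F := hVU (hLV (cj_mem_cj (h.M.e_mem _)))
    have h4 := inv_mem (h.comm_LF h3 hw)
    have h5 : (c (k * l * k⁻¹) w)⁻¹ = z := by
      have e1 : (c (k * l * k⁻¹) w)⁻¹ = k * ((k⁻¹ * w * k) * l * (k⁻¹ * w * k)⁻¹ * l⁻¹) * k⁻¹ := by rw [c]; group
      rw [e1, h1, mul_inv_cancel_right, hb]
      group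
    rwa [h5] at h4
  exact Subgroup.eq_of_le_of_card_ge hle (card_cj _ _).ge

/-- an elementary abelian `A ≤ N_X(R^k)` acts with order `≤ 2` on `R^k` -/
theorem relIndex_two [Finite K] {k : G} (hk : k ∈ X) {A : Subgroup G} (hsq : ∀ a ∈ A, a ^ 2 = 1) (hAX : A ≤ X)
    (hAn : ∀ a ∈ A, MulAut.conj a • MulAut.conj k • h.M.R = MulAut.conj k • h.M.R) :
    (centralizer ((MulAut.conj k • h.M.R : Subgroup G) : Set G)).relIndex A ≤ 2 := by
  have : Fact (Nat.Prime 2) := ⟨Nat.prime_two⟩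
  have hA2 : IsPGroup 2 (MulAut.conj k⁻¹ • A : Subgroup G) := by
    rintro ⟨y, hy⟩
    refine ⟨1, Subtype.ext ?_⟩
    rw [mem_cj, inv_inv] at hy
    have h1 := hsq _ hy
    have e : y ^ 2 = k⁻¹ * (k * y * k⁻¹) ^ 2 * k := by rw [pow_two, pow_two]; group
    simp [e, h1]
  obtain ⟨m, hm, hle⟩ := NoFF.Main.exists_le_conj (M := X ⊓ normalizer (h.M.R : Set G)) S (le_inf s.SX h.M.S_R) hA2 (by
    intro y hy
    rw [mem_cj, inv_inv] at hy
    refine ⟨?_, ?_⟩
    · have := mul_mem (mul_mem (inv_mem hk) (hAX hy)) hk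
      have e : k⁻¹ * (k * y * k⁻¹) * k = y := by group
      rwa [e] at this
    · refine mem_norm_of_cj ?_
      have h1 := hAn _ hy
      rw [conj_conj] at h1
      have h2 := congrArg (fun T : Subgroup G => MulAut.conj k⁻¹ • T) h1
      simp only [conj_conj] at h2
      have e : k⁻¹ * (k * y * k⁻¹ * k) = y := by group
      rwa [e, inv_mul_cancel, map_one, one_smul] at h2)
  have hmR : MulAut.conj m • h.M.R = h.M.R := conj_eq_of_norm hm.2
  -- `A'' = A^{(k m)⁻¹} ≤ S`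
  set A'' : Subgroup G := MulAut.conj (k * m)⁻¹ • A with hA''
  have hA''S : A'' ≤ (S : Subgroup G) := by
    have h1 := conj_le_iff (g := m⁻¹) |>.2 hle
    rw [conj_conj, conj_conj, inv_mul_cancel, map_one, one_smul] at h1
    rwa [hA'', mul_inv_rev]
  have hsq'' : ∀ a ∈ A'', a ^ 2 ∈ centralizer (h.M.R : Set G) := by
    intro a ha
    rw [hA'', mem_cj, inv_inv] at ha
    have h1 := hsq _ ha
    have e : a ^ 2 = (k * m)⁻¹ * (k * m * a * (k * m)⁻¹) ^ 2 * (k * m) := by rw [pow_two, pow_two]; group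
    rw [e, h1, mul_one, inv_mul_cancel]
    exact one_mem _
  have h1 : (centralizer (h.M.R : Set G)).relIndex A'' ≤ 2 := by
    by_cases hc : A'' ≤ centralizer (h.M.R : Set G)
    · rw [relIndex_eq_one.2 hc]
      norm_num
    · exact (h.M.relIndex_two hA''S hsq'' hc).le
  have h2 := Subgroup.relIndex_pointwise_smul (MulAut.conj (k * m)) (centralizer (h.M.R : Set G)) A''
  rw [hA'', conj_conj, mul_inv_cancel, map_one, one_smul, conj_centralizer, ← conj_conj k m, hmR, ← hA''] at h2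
  rw [h2]
  exact h1

omit s [Finite G] in
theorem conj_ne {A : Subgroup G} {g : G} (hg : MulAut.conj g • A ≠ A) : MulAut.conj g⁻¹ • A ≠ A := by
  intro h1
  apply hg
  conv_lhs => rw [← h1]
  rw [conj_conj, mul_inv_cancel, map_one, one_smul]

/-- **(b)** `R^k ≤ E^p` -/
theorem conjR_E [Finite K] [CharP K 2] (hK : 4 ≤ Nat.card K) {w p₀ : G} (b : BadAt h w p₀) {k p : G} (hk : k ∈ X)
    (hp : p ∈ P) : MulAut.conj k • h.M.R ≤ MulAut.conj p • Flat.EE V F := by
  by_cases hkR : MulAut.conj k • h.M.R = h.M.R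
  · rw [hkR]
    have h1 : MulAut.conj p • L ≤ MulAut.conj p • Flat.EE V F := conj_le_iff.2 h.L_le_E
    rw [h.cjL hp] at h1
    exact h.R_le_L.trans h1
  by_contra hcon
  obtain ⟨r, hr, hrE⟩ := SetLike.not_le_iff_exists.1 hcon
  obtain ⟨x, hx, hb⟩ := h.exists_bad
  have hkLV : MulAut.conj k • L ≤ V := (s.conjL_VU hk).trans inf_le_left
  have hrV : r ∈ V := hkLV (conj_le_iff.2 h.R_le_L hr)
  -- `Λ = (L^x)^p`
  set A : Subgroup G := MulAut.conj p • MulAut.conj x • L with hA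
  have hAB : A ≤ MulAut.conj p • h.B1 := conj_le_iff.2 (h.conjL_le hx)
  have hAQ : A ≤ h.Q := by
    have h1 : MulAut.conj p • h.B1 ≤ MulAut.conj p • h.Q := conj_le_iff.2 h.B1_le_Q
    have h2 : MulAut.conj p • h.Q = h.Q := conj_eq_of_norm (h.PQ hp)
    rw [h2] at h1
    exact hAB.trans h1
  have hAX : A ≤ X := (hAQ.trans inf_le_left).trans s.SX
  have hsq : ∀ a ∈ A, a ^ 2 = 1 := by
    intro a ha
    rw [hA, conj_conj, mem_cj] at ha
    have h1 := h.hyp.sq _ (h.LV ha)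
    have e : a ^ 2 = p * x * ((p * x)⁻¹ * a * (p * x)) ^ 2 * (p * x)⁻¹ := by rw [pow_two, pow_two]; group
    rw [e, h1, mul_one, mul_inv_cancel]
  -- `C_Λ(r) ≤ R^p`
  have hcent : ∀ a ∈ A, r * a = a * r → a ∈ MulAut.conj p • h.M.R := by
    intro a ha har
    have hv : p⁻¹ * r * p ∈ V := by
      have h1 : r ∈ MulAut.conj p • V := by rwa [h.cjV hp]
      exact mem_cj.1 h1
    have hvE : p⁻¹ * r * p ∉ Flat.EE V F := fun h1 => hrE (mem_cj.2 h1)
    have hl : p⁻¹ * a * p ∈ MulAut.conj x • L := mem_cj.1 ha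
    have h1 : c (p⁻¹ * r * p) (p⁻¹ * a * p) ∈ F := by
      have e : c (p⁻¹ * r * p) (p⁻¹ * a * p) = p⁻¹ * (r * a * (a * r)⁻¹) * p := by rw [c]; group
      rw [e, har, mul_inv_cancel, mul_one, inv_mul_cancel]
      exact one_mem _
    have h2 := (h.hyp.c_mem_F_iff hv hvE (h.conjL_le hx hl).1).1 h1
    exact mem_cj.2 ((h.conjL_inf hx hb).le ⟨hl, h2⟩)
  have hcard : Nat.card K ≤ (centralizer ((MulAut.conj k • h.M.R : Subgroup G) : Set G)).relIndex A := by
    have h1 : A ⊓ centralizer ((MulAut.conj k • h.M.R : Subgroup G) : Set G) ≤ MulAut.conj p • h.M.R := by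
      rintro a ⟨ha, haR⟩
      exact hcent a ha (mem_centralizer_iff.1 haR r hr)
    have h2 : (MulAut.conj p • h.M.R).relIndex A = Nat.card K := by
      rw [← h.relIndex_R_L, hA]
      conv_lhs => rw [← h.conjR hx]
      rw [Subgroup.relIndex_pointwise_smul, Subgroup.relIndex_pointwise_smul]
    rw [← h2, ← inf_relIndex_left A (centralizer ((MulAut.conj k • h.M.R : Subgroup G) : Set G))]
    exact Subgroup.relIndex_le_of_le_left h1 Subgroup.index_ne_zero_of_finite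
  obtain ⟨a, ha, haR⟩ : ∃ a ∈ A, MulAut.conj a • MulAut.conj k • h.M.R ≠ MulAut.conj k • h.M.R := by
    by_contra hcon'
    push Not at hcon'
    have h1 := s.relIndex_two hk hsq hAX hcon'
    omega
  -- `L^{ak} ≤ F^k`
  have e1 : a * k = k * (k⁻¹ * a * k) := by group
  have h3 : MulAut.conj a • MulAut.conj k • L ≤ MulAut.conj k • F := by
    have h1 : MulAut.conj (k⁻¹ * a * k) • h.M.R ≠ h.M.R := by
      intro h1
      apply haR
      rw [conj_conj, e1, ← conj_conj, h1]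
    have h2 := s.conjL_F b.VU_le (mul_mem (mul_mem (inv_mem hk) (hAX ha)) hk) h1
    have h3 := conj_le_iff (g := k) |>.2 h2
    rwa [conj_conj, ← e1, ← conj_conj] at h3
  -- `L ≤ F^k`
  have h4 : L ≤ MulAut.conj k • F := by
    have h6 := s.conjL_F b.VU_le (inv_mem hk) (conj_ne hkR)
    have h7 := conj_le_iff (g := k) |>.2 h6
    rwa [conj_conj, mul_inv_cancel, map_one, one_smul] at h7
  -- `L^k ∩ E^p ≤ R^k`
  have h5 : MulAut.conj k • L ⊓ MulAut.conj p • Flat.EE V F ≤ MulAut.conj k • h.M.R := by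
    rintro v ⟨hv, hvE⟩
    have hvF : v ∈ MulAut.conj k • F := by
      have h6 : c v a ∈ MulAut.conj k • F := by
        have h7 := b.comm_E (mem_cj.1 hvE) (mem_cj.1 (hAB ha))
        have h8 := cj_mem_cj (g := p) h7
        have e : p * c (p⁻¹ * v * p) (p⁻¹ * a * p) * p⁻¹ = c v a := by rw [c, c]; group
        rw [e] at h8
        exact h4 (h.pt_le hp h8)
      have h7 : a * v * a⁻¹ ∈ MulAut.conj k • F := h3 (cj_mem_cj hv)
      have e : v = c v a * (a * v * a⁻¹) := by rw [c]; group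
      rw [e]
      exact mul_mem h6 h7
    have h6 : v ∈ MulAut.conj k • (L ⊓ F) := by
      rw [Subgroup.smul_inf]
      exact ⟨hv, hvF⟩
    rwa [h.L_inf_F] at h6
  have h6 : (MulAut.conj p • Flat.EE V F).relIndex (MulAut.conj k • L) ≤ Nat.card K := by
    have h7 : (MulAut.conj p • Flat.EE V F).relIndex (MulAut.conj k • L) ≤ (MulAut.conj p • Flat.EE V F).relIndex V :=
      Subgroup.relIndex_le_of_le_right hkLV Subgroup.index_ne_zero_of_finite
    have h8 := Subgroup.relIndex_pointwise_smul (MulAut.conj p) (Flat.EE V F) V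
    rw [h.cjV hp] at h8
    rw [h8] at h7
    exact h7.trans b.relIndex_V_le
  have h7 : Nat.card ↥(MulAut.conj k • h.M.R) ≤ Nat.card ↥(MulAut.conj k • L ⊓ MulAut.conj p • Flat.EE V F) := by
    have h8 := NOne.Flat.card_mul_relIndex'
      (inf_le_left : MulAut.conj k • L ⊓ MulAut.conj p • Flat.EE V F ≤ MulAut.conj k • L)
    rw [inf_relIndex_left, card_cj, h.M.card_V] at h8
    rw [card_cj, h.M.card_R]
    have h9 := Nat.mul_le_mul_left (Nat.card ↥(MulAut.conj k • L ⊓ MulAut.conj p • Flat.EE V F)) h6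
    rw [h8] at h9
    exact Nat.le_of_mul_le_mul_right h9 h.card_pos
  have h8 := Subgroup.eq_of_le_of_card_ge h5 h7
  exact hrE ((h8.ge.trans inf_le_right) hr)

end Sit

/-- **(6)** -/
theorem act_false {K : Type*} [Field K] [Finite K] [CharP K 2] (h : Fr K S P V F L U) (hK : 4 ≤ Nat.card K)
    (SX : (S : Subgroup G) ≤ X) (XV : X ≤ normalizer (V : Set G)) (XU : X ≤ normalizer (U : Set G))
    (hVQ : V ⊓ centralizer (h.Q : Set G) ≤ L) (hWX : Flat.WW V F ≤ o2 X) (hoX : o2 X ≤ (S : Subgroup G))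
    (mv : ¬ X ≤ normalizer (h.M.R : Set G)) : False := by
  have s : Sit h X := ⟨SX, XV, XU, hWX, hoX⟩
  obtain ⟨v, hvY, hvV, hvL, hvS⟩ := s.exists_u mv
  obtain ⟨p, hp, hpR⟩ := crd_exists_mv h.M
  have b := h.badAt hVQ hvV hvL (fun t ht => hvS t ht.1) hp hpR
  have h1 : NoFF.Basic.V h.M.R X ≤ MulAut.conj p⁻¹ • Flat.EE V F :=
    V_le fun k hk => s.conjR_E hK b hk (inv_mem hp)
  have h2 := mem_cj.1 (h1 hvY)
  rw [inv_inv] at h2
  exact b.wE h2

end Cfsg.Agent.Omega.NO3S.RedC
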