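import Cfsg.Agent.Omega.NO3S.RedC.Single
import Cfsg.Agent.Omega.NO3S.RedC.Act
import Cfsg.Agent.Omega.NO3S.BetaFF.UniqZ
import Cfsg.Agent.Omega.Spread.OffAll

/-!
# RED in the case (L) (helper284 #23199): (5), the W-stage at `DX`

`V = Ω₁(Z(DX))` is not FF and has a bad subgroup: impossible (`Rx.false_of_bad`).
-/

set_option autoImplicit false
set_option linter.unusedSectionVars false

namespace Cfsg.Agent.Omega.NO3S.RedC

open Subgroup Cfsg Cfsg.Agent.ZN Cfsg.Agent.ZN.ChoiceBase Cfsg.Agent.Omega.MinPar Cfsg.Agent.Omega.Frame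
open Cfsg.Agent.Omega.FrameNOFF (CZ)
open Cfsg.Agent.Omega.NO3b.EZero (cl_le)
open Cfsg.Agent.Omega.NO3b.Wc (WC)
open Cfsg.Agent.Omega.NO3S.Level
open Cfsg.Agent.Omega.NO3S.Fld (Crd)
open Cfsg.Agent.Omega.NO3S.Fld.WFour (O5)
open Cfsg.Agent.Omega.FFThm (OffM)
open scoped Pointwise

universe u

variable {G : Type u} [Group G] [Finite G] {S : Sylow 2 G} {P X : Subgroup G} {F : Type*} [Field F]

/-- No subgroup offends on `V`. -/
theorem noOff_of {V A : Subgroup G} (hn : NO3b.EZero.NotFF V) (hA : A ≤ normalizer (V : Set G)) : ¬ OffM V A := by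
  intro hoff
  obtain ⟨B, hB, hB2, h1⟩ := NOThreeL.VF.exists_two hA hoff.toElemM
  have hne : ¬ B ≤ centralizer (V : Set G) := fun hc => hoff.ne fun a ha => by
    obtain ⟨b, hb, hab⟩ := h1 a ha
    have h2 := mul_mem (hc hb) hab
    have e : b * (b⁻¹ * a) = a := by group
    rwa [e] at h2
  have hE := NOThreeL.VF.elemM_mono hoff.toElemM hB
  have h3 := hn B hB2 (hB.trans hA) hE.sq hE.comm hne
  have h4 : Nat.card V ≤ NOThreeL.VF.fM V B := by
    rw [NOThreeL.VF.fM_congr hB h1]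
    exact NOThreeL.VF.le_fM_iff.2 hoff.le
  exact absurd (FFThm.relIndex_le_iff.1 (NOThreeL.VF.le_fM_iff.1 h4)) (not_le.2 h3)

/-- A 2-group containing `DX` lies in `GX`. -/
theorem pgroup_le {T : Subgroup G} (hT : IsPGroup 2 T) (h1 : DX (S : Subgroup G) P X ≤ T) :
    T ≤ GX (S : Subgroup G) P X := by
  obtain ⟨S', hS'⟩ := hT.exists_le_sylow
  obtain ⟨l, hl⟩ := MulAction.exists_smul_eq G S S'
  have hl2 : (S' : Subgroup G) = cj l (S : Subgroup G) := by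
    rw [← hl, Sylow.coe_subgroup_smul]; rfl
  rw [hl2] at hS'
  have h2 : cj l⁻¹ (DX (S : Subgroup G) P X) ≤ (S : Subgroup G) := by
    have h3 := cj_mono l⁻¹ (h1.trans hS')
    rwa [cj_inv_cj] at h3
  have h3 : l ∈ GX (S : Subgroup G) P X := by
    have := inv_mem (mem_GX h2 : l⁻¹ ∈ GX (S : Subgroup G) P X)
    rwa [inv_inv] at this
  refine hS'.trans ?_
  have h4 := cj_mono l (S_le_GX (S : Subgroup G) P X)
  rwa [cj_eq_of_mem_normalizer (Subgroup.le_normalizer h3)] at h4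

/-- `O₂(Y) ≤ GX` for every `Y ≥ DX`. -/
theorem o2_le_GX {Y : Subgroup G} (hY : DX (S : Subgroup G) P X ≤ Y) : o2 Y ≤ GX (S : Subgroup G) P X := by
  obtain ⟨T, hT, h1⟩ := ChoiceSit.exists_syl (S.isPGroup'.to_le (DX_le (S : Subgroup G) P X)) hY
  exact (ChoiceSit.o2_le_syl hT).trans (pgroup_le hT.2.1 h1)

namespace Rx

variable {M : Crd F (S : Subgroup G) P (zl (S : Subgroup G) P)} (h : Rx S P X M)
include h

theorem exists_hyp (hn : NO3b.EZero.NotFF (zc (DX (S : Subgroup G) P X))) {F₀ : Subgroup G}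
    (h0 : NOne.Flat.Bad (zc (DX (S : Subgroup G) P X)) F₀) :
    ∃ F₁, F₀ ≤ F₁ ∧ NOne.Flat.Hyp (zc (DX (S : Subgroup G) P X)) F₁ := by
  refine NOne.Flat.exists_hyp h.V_comm h.V_sq (fun D _ hD => ?_) (fun _ hA => noOff_of hn hA) (fun D hne hD => ?_) h0
  · exact (o2_le_GX (h.D_cent.trans (centralizer_le hD))).trans (GX_norm _ _ _)
  · have hD2 : IsPGroup 2 D := S.isPGroup'.to_le (hD.trans h.V_le_S)
    exact NOne.LemmaT.char2_of_normal (MinSimple.Basic.char2_normalizer h.hG hD2 hne)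
      (centralizer_le_normalizer _)
      (normalizer_le_of_cj (F := fun T => centralizer (T : Set G)) (fun g T => (cj_centralizer g T).symm) D)

/-- Some `W_F ≤ S` is not in `O₂(P)` or not in `O₂(X)`. -/
theorem exists_W (hn : NO3b.EZero.NotFF (zc (DX (S : Subgroup G) P X))) {F₀ : Subgroup G}
    (h0 : NOne.Flat.Bad (zc (DX (S : Subgroup G) P X)) F₀) :
    ∃ F₁, NOne.Flat.Hyp (zc (DX (S : Subgroup G) P X)) F₁ ∧
      NOne.Flat.WW (zc (DX (S : Subgroup G) P X)) F₁ ≤ (S : Subgroup G) ∧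
      (¬ NOne.Flat.WW (zc (DX (S : Subgroup G) P X)) F₁ ≤ o2 P ∨
        ¬ NOne.Flat.WW (zc (DX (S : Subgroup G) P X)) F₁ ≤ o2 X) := by
  obtain ⟨F₁, -, hF⟩ := h.exists_hyp hn h0
  set V := zc (DX (S : Subgroup G) P X) with hV
  have hWM : NOne.Flat.WW V F₁ ≤ GX (S : Subgroup G) P X :=
    NOne.Flat.Hyp.W_le_R.trans (o2_le_GX (h.D_cent.trans (centralizer_le hF.F_le_V)))
  have hW2 : IsPGroup 2 (NOne.Flat.WW V F₁) := (isPGroup_o2 _).to_le NOne.Flat.Hyp.W_le_R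
  obtain ⟨A, ⟨m, hm, rfl⟩, hmS, hA⟩ := h.prin le_rfl hWM hW2 hF.W_move
    (𝓕 := {A | ∃ m ∈ GX (S : Subgroup G) P X, cj m (NOne.Flat.WW V F₁) = A})
    (fun A hA n hn => by
      obtain ⟨m, hm, rfl⟩ := hA
      exact ⟨n * m, mul_mem hn hm, (cj_cj n m _).symm⟩)
    ⟨1, one_mem _, by rw [cj_one]⟩
  have hmV : m ∈ normalizer (V : Set G) := GX_norm _ _ _ hm
  have e : NOne.Flat.WW V (MulAut.conj m • F₁) = cj m (NOne.Flat.WW V F₁) := (NOne.Flat.WW_conj hmV).symm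
  exact ⟨MulAut.conj m • F₁, hF.conj hmV, by rw [e]; exact hmS, by rw [e]; exact hA⟩

/-- `U ≤ O₂(C_G(Z))` -/
theorem U_low : NO3b.EZero.cl (zl (S : Subgroup G) P) X ≤ o2 (CZ (S : Subgroup G)) := cl_le fun x hx => by
  have h1 := cj_mono x (h.cl.hypN.low P h.parP)
  rwa [cj_eq_of_mem_normalizer (ZN.le_normalizer_o2 _ (h.le hx))] at h1

theorem U_le_V : NO3b.EZero.cl (zl (S : Subgroup G) P) X ≤ zc (DX (S : Subgroup G) P X) := h.cl_le_V (GX_norm _ _ _) h.L_le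

theorem U_le_E {F₁ : Subgroup G} (hF : NOne.Flat.Hyp (zc (DX (S : Subgroup G) P X)) F₁)
    (hW : NOne.Flat.WW (zc (DX (S : Subgroup G) P X)) F₁ ≤ (S : Subgroup G)) :
    NO3b.EZero.cl (zl (S : Subgroup G) P) X ≤ NOne.Flat.EE (zc (DX (S : Subgroup G) P X)) F₁ :=
  BetaFF.le_EE_of_low hF h.U_le_V (BetaFF.zc_le_F hF h.Z_le hW) h.U_low

/-- `W_F ≤ S`, `W_F ≰ O₂(X)` is an offender on all subgroups of `U`. -/
theorem o5 {F₁ : Subgroup G} (hF : NOne.Flat.Hyp (zc (DX (S : Subgroup G) P X)) F₁)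
    (hW : NOne.Flat.WW (zc (DX (S : Subgroup G) P X)) F₁ ≤ (S : Subgroup G))
    (hQ : ¬ NOne.Flat.WW (zc (DX (S : Subgroup G) P X)) F₁ ≤ o2 X) :
    O5 S P X (NOne.Flat.WW (zc (DX (S : Subgroup G) P X)) F₁) where
  le := hW
  elem := ⟨fun a ha => centralizer_le ((h.U_le_E hF hW).trans inf_le_left) (hF.elemM_W.sq a ha),
    fun a ha b hb => centralizer_le ((h.U_le_E hF hW).trans inf_le_left) (hF.elemM_W.comm a ha b hb)⟩
  off := fun Y hY => hF.off_of_le_all (hY.trans (h.U_le_E hF hW))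
  nQ := hQ
  quad := fun u hu a ha => by
    have h1 := inv_mem (hF.comm_EW (h.U_le_E hF hW hu) ha)
    have e : (NOne.NearFF.c u a)⁻¹ = a * u * a⁻¹ * u⁻¹ := by rw [NOne.NearFF.c]; group
    rw [e] at h1
    rw [mem_centralizer_iff]
    intro w hw
    have h2 : w ∈ centralizer (F₁ : Set G) := NOne.Flat.Hyp.W_le_X (V := zc (DX (S : Subgroup G) P X)) hw
    exact (mem_centralizer_iff.1 h2 _ h1).symm

/-- **(5), (6)** -/
theorem false_of_bad [Finite F] [CharP F 2] (hF4 : 4 ≤ Nat.card F)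
    (hZ : Nat.card (zc (S : Subgroup G)) ≠ Nat.card F) (hn : NO3b.EZero.NotFF (zc (DX (S : Subgroup G) P X))) {F₀ : Subgroup G}
    (h0 : NOne.Flat.Bad (zc (DX (S : Subgroup G) P X)) F₀) : False := by
  obtain ⟨F₁, hF, hW, hor⟩ := h.exists_W hn h0
  have hWX : NOne.Flat.WW (zc (DX (S : Subgroup G) P X)) F₁ ≤ o2 X := by
    by_contra hcon
    exact h.single hZ (h.o5 hF hW hcon)
  have hWP := hor.resolve_right (not_not.2 hWX)
  have hPV : P ≤ normalizer (zc (DX (S : Subgroup G) P X) : Set G) := h.P_le.trans (GX_norm _ _ _)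
  obtain ⟨fr, hM⟩ := Omega.BetaFF.exists_fr h.cl.hypN hF hPV h.L_le hW hWP M
  refine act_false fr hF4 h.S_X (h.X_le.trans (GX_norm _ _ _)) (h.le.trans Omega.BetaFF.UU_norm) ?_ hWX h.o2X_le ?_
  · -- `C_V(Q) ≤ V_P`
    have h1 : fr.Q = o2 P := h.parP.inf_centralizer S h.hG
    rw [h1, ← h.cl.zc_eq]
    rintro v ⟨hv, hvQ⟩
    refine ChoiceBase.mem_zc.2 ⟨DX_le_P _ _ _ (ZN.zc_le _ hv), h.V_sq v hv, fun q hq => ?_⟩
    exact mem_centralizer_iff.1 hvQ q hq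
  · rw [hM]; exact h.mv

end Rx

end Cfsg.Agent.Omega.NO3S.RedC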