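import Cfsg.Agent.Omega.NO3S.RedC.Nff
import Cfsg.Agent.Omega.NO3S.RedC.Root
import Cfsg.Agent.Omega.NO3S.RedC.WSt
import Cfsg.Agent.Omega.NO3S.RedC.JJ
import Cfsg.Agent.Omega.NO3S.Level.Gamma

/-!
# RED in the case (L) (helper284 #23199): `RedCZL K`

* `Rx.false` : there is no `X ∈ P(S)` in `C_G(Z)` which moves `R`;
* **`redCZL : RedCZL K`**, `redH_caseL' : RedH K CaseLP`.
-/

set_option autoImplicit false

namespace Cfsg.Agent.Omega.NO3S.RedC

open Subgroup Cfsg Cfsg.Agent.ZN Cfsg.Agent.Omega.MinPar Cfsg.Agent.Omega.Frame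
open Cfsg.Agent.Omega.NO3S.Level
open Cfsg.Agent.Omega.NO3S.Fld (Crd)

universe u

section

variable {G : Type u} [Group G] [Finite G] {S : Sylow 2 G} {P X : Subgroup G} {F : Type*} [Field F] [Finite F]
  [CharP F 2] {M : Crd F (S : Subgroup G) P (zl (S : Subgroup G) P)}

theorem Rx.false (h : Rx S P X M) (hF : 4 ≤ Nat.card F) (hZ : Nat.card (zc (S : Subgroup G)) ≠ Nat.card F) :
    False := by
  obtain ⟨F₀, hb⟩ := h.exists_bad (h.nff_zl hZ)
  exact h.false_of_bad hF hZ (h.nff_V hZ) hb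

/-- **`C_G(Z) ≤ N_G(R)` in the case (L).** -/
theorem cz_le (h : CaseL S P) (hF : 4 ≤ Nat.card F) (hZ : Nat.card (zc (S : Subgroup G)) ≠ Nat.card F)
    (M : Crd F (S : Subgroup G) P (zl (S : Subgroup G) P)) :
    FrameNOFF.CZ (S : Subgroup G) ≤ normalizer (M.R : Set G) :=
  cz_le_of h M hZ fun _ hX => hX.false hF hZ

end

/-- **THE SOCKET `RedCZL`.** -/
theorem redCZL (K : Cls.{u}) : RedCZL K := fun _ _ _ _ _ _ h _ _ _ _ hF hZ M => Or.inl (cz_le h hF hZ M)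

/-- `Ends.red` in the case (L). -/
theorem redH_caseL' (K : Cls.{u}) : RedH K CaseLP := redH_caseL (redCZL K)

end Cfsg.Agent.Omega.NO3S.RedC
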