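import Cfsg.Agent.Omega.NO3S.Fld.Mods
import Cfsg.Agent.Omega.NOThreeL.VF.Base
import Cfsg.Agent.Omega.NO3b.EZeroBase

/-!
# Two facts on `S/C_S(R)` (for #23199 (6))

`M : Crd F S P V`, `|F| ≥ 4`, `R = M.R`.

* `Crd.le_centR_of_off` : a quadratic offender `A ≤ S` on `V` centralises `R`;
* `Crd.relIndex_R_le_two` : `|D : C_D(R)| ≤ 2` for a 2-group `D ≤ N_G(R)` with `D² ≤ C(R)`.
-/

set_option autoImplicit false

namespace Cfsg.Agent.Omega.NO3S.Fld

open Subgroup Cfsg Cfsg.Agent.ZN Cfsg.Agent.ZN.ChoiceBase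
open Cfsg.Agent.Omega.NatPair (ext2)

universe u

namespace Crd

set_option linter.unusedSectionVars false

variable {G : Type u} [Group G] [Finite G] {F : Type*} [Field F] [Finite F] [CharP F 2] {P V : Subgroup G}

/-- A subgroup `A ≤ S` which is quadratic on `V` and satisfies `|V : C_V(A)| ≤ |A : C_A(V)|` centralises `R`. -/
theorem le_centR_of_off {S : Subgroup G} (M : Crd F S P V) {A : Subgroup G} (hA : A ≤ S)
    (hq : ∀ v ∈ V, ∀ a ∈ A, ∀ b ∈ A, b * (a * v * a⁻¹ * v⁻¹) = a * v * a⁻¹ * v⁻¹ * b)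
    (hoff : (centralizer (A : Set G)).relIndex V ≤ (centralizer (V : Set G)).relIndex A) :
    A ≤ centralizer (M.R : Set G) := by
  by_contra hne
  have hsq : ∀ a ∈ A, a ^ 2 ∈ centralizer (M.R : Set G) := by
    intro a ha
    rw [mem_centralizer_iff]
    intro v hv
    have hvV := M.R_le hv
    have h1 := hq v hvV a ha a ha
    have h2 : a * v * a⁻¹ * v⁻¹ ∈ V := mul_mem ((mem_normalizer_iff.1 (M.S_V (hA ha)) v).1 hvV) (inv_mem hvV)
    have h3 := M.sq h2
    set w := a * v * a⁻¹ * v⁻¹ with hw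
    have h4 : a * v * a⁻¹ = w * v := by rw [hw]; group
    have h5 : a * (a * v * a⁻¹) * a⁻¹ = v := by
      rw [h4]
      calc a * (w * v) * a⁻¹ = (a * w) * v * a⁻¹ := by group
        _ = w * (a * v * a⁻¹) := by rw [h1]; group
        _ = v := by rw [h4, ← mul_assoc, h3, one_mul]
    rw [pow_two]
    have h6 : a * (a * v * a⁻¹) * a⁻¹ = a * a * v * (a * a)⁻¹ := by group
    rw [h6, mul_inv_eq_iff_eq_mul] at h5
    exact h5.symm
  obtain ⟨φ, h1, h2, h3⟩ := M.exists_phi hA hsq hne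
  obtain ⟨d, hd, hdR⟩ := SetLike.not_le_iff_exists.1 hne
  obtain ⟨c, hc⟩ := h3 d hd hdR
  -- `C_A(R) = C_A(V)`
  have key : ∀ b ∈ A, b ∈ centralizer (M.R : Set G) → b ∈ centralizer (V : Set G) := by
    intro b hb hbR
    obtain ⟨t, ht⟩ := M.exists_root (hA hb) hbR
    by_contra hbV
    have ht0 : t ≠ 0 := fun h => hbV (ht.mem_centV.2 ⟨rfl, h⟩)
    apply hdR
    rw [mem_centralizer_iff]
    rintro _ ⟨a, rfl⟩
    have h5 := hq (M.e ![0, a / t]) (M.e_mem _) b hb d hd
    have h6 : b * M.e ![0, a / t] * b⁻¹ * (M.e ![0, a / t])⁻¹ = M.e ![a, 0] := by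
      rw [ht, ← M.e_sub]
      congr 1
      apply ext2
      · show (0 : F) + t * (a / t) - 0 = a
        field_simp
        ring
      · show a / t - a / t = 0
        ring
    rw [h6] at h5
    exact h5.symm
  have h4 : (centralizer (V : Set G)).relIndex A = 2 := by
    rw [← M.relIndex_two hA hsq hne, ← inf_relIndex_left A, ← inf_relIndex_left A (centralizer (M.R : Set G))]
    congr 1
    exact le_antisymm (inf_le_inf_left _ (centralizer_le M.R_le)) fun b hb => ⟨hb.1, key b hb.1 hb.2⟩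
  -- a vector of `R` and a vector outside
  obtain ⟨y, hy⟩ : ∃ y, φ y ≠ y := by
    by_contra hcon
    push Not at hcon
    exact h1 (RingEquiv.ext hcon)
  have hcd : ∀ x : Fin 2 → F, φ (x 1) ≠ x 1 → M.e x ∉ centralizer (A : Set G) := by
    intro x hx hxc
    have h5 := mem_centralizer_iff.1 hxc d hd
    have h6 := hc x
    rw [h5, mul_assoc, mul_inv_cancel, mul_one] at h6
    exact hx (congrFun (M.e_inj h6) 1).symm
  have hyc : M.e ![0, y] ∉ centralizer (A : Set G) := hcd _ hy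
  have hyR : M.e ![y, 0] ∉ centralizer (A : Set G) := by
    intro hxc
    have h5 := mem_centralizer_iff.1 hxc d hd
    have h6 := hc ![y, 0]
    rw [h5, mul_assoc, mul_inv_cancel, mul_one] at h6
    apply hy
    have h7 := congrFun (M.e_inj h6) 0
    simpa using h7.symm
  have h5 : (centralizer (A : Set G)).relIndex V = 2 := by
    refine le_antisymm (hoff.trans h4.le) ?_
    have h6 : (centralizer (A : Set G)).relIndex V ≠ 0 := index_ne_zero_of_finite
    have h7 : (centralizer (A : Set G)).relIndex V ≠ 1 := fun h => hyR (relIndex_eq_one.1 h (M.e_mem _))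
    omega
  have h6 := mul_mem_iff_of_index_two h5 (a := ⟨M.e ![y, 0], M.e_mem _⟩) (b := ⟨M.e ![0, y], M.e_mem _⟩)
  rw [mem_subgroupOf, mem_subgroupOf, mem_subgroupOf] at h6
  refine hcd (![y, 0] + ![0, y]) ?_ ?_
  · show φ (0 + y) ≠ 0 + y
    rwa [zero_add]
  · rw [M.e_add]
    exact h6.2 ⟨fun h => absurd h hyR, fun h => absurd h hyc⟩

/-- `|D : C_D(R)| ≤ 2` for a 2-group `D ≤ N_G(R)` with `D² ≤ C(R)`. -/
theorem relIndex_R_le_two {S : Sylow 2 G} (M : Crd F (S : Subgroup G) P V) {D : Subgroup G} (hp : IsPGroup 2 D)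
    (hD : D ≤ normalizer (M.R : Set G)) (hsq : ∀ a ∈ D, a ^ 2 ∈ centralizer (M.R : Set G)) :
    (centralizer (M.R : Set G)).relIndex D ≤ 2 := by
  obtain ⟨n, hn, hnS⟩ := NOThreeL.VF.exists_conj_le S M.S_R hp hD
  have hcR : cj n M.R = M.R := cj_eq_of_mem_normalizer hn
  have hcC : cj n (centralizer (M.R : Set G)) = centralizer (M.R : Set G) := by
    rw [cj_centralizer, hcR]
  have hDS : cj n D ≤ (S : Subgroup G) := by
    intro x hx
    have h1 := hnS _ (mem_cj.1 hx)
    have e : n * (n⁻¹ * x * n) * n⁻¹ = x := by group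
    rwa [e] at h1
  have e : (centralizer (M.R : Set G)).relIndex (cj n D) = (centralizer (M.R : Set G)).relIndex D := by
    have h1 := NO3b.EZero.relIndex_cj n (centralizer (M.R : Set G)) D
    rwa [hcC] at h1
  rw [← e]
  by_cases hne : cj n D ≤ centralizer (M.R : Set G)
  · rw [relIndex_eq_one.2 hne]; omega
  · refine (M.relIndex_two hDS (fun a ha => ?_) hne).le
    have h1 := hsq _ (mem_cj.1 ha)
    have h2 : a ^ 2 ∈ cj n (centralizer (M.R : Set G)) := by
      rw [mem_cj]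
      have e : n⁻¹ * a ^ 2 * n = (n⁻¹ * a * n) ^ 2 := by rw [pow_two, pow_two]; group
      rwa [e]
    rwa [hcC] at h2

end Crd

end Cfsg.Agent.Omega.NO3S.Fld
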