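import Cfsg.Agent.Omega.NO3S.RedC.Single
import Cfsg.Agent.Omega.NO3S.RedC.MaxMin
import Cfsg.Agent.Omega.NO3S.Fld.LFourBase

/-!
# RED in the case (L) (helper284 #23199): (3), (4) no offenders

* `Rx.nff_or` : `V_P ≤ W ≤ Ω₁(Z(DX))`, `W` normal in `GX`: `W` is not FF, or `W = V_P`;
* `Rx.not_norm_L` : `X` moves `V_P`;
* `Rx.nff_V`, `Rx.nff_zl`.
-/

set_option autoImplicit false
set_option linter.unusedSectionVars false

namespace Cfsg.Agent.Omega.NO3S.RedC

open Subgroup Cfsg Cfsg.Agent.ZN Cfsg.Agent.ZN.ChoiceBase Cfsg.Agent.Omega.MinPar Cfsg.Agent.Omega.Frame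
open Cfsg.Agent.Omega.FrameNOFF (CZ)
open Cfsg.Agent.Omega.NO3b.EZero (cl cl_le)
open Cfsg.Agent.Omega.NO3S.Level
open Cfsg.Agent.Omega.NO3S.Fld (Crd)
open Cfsg.Agent.Omega.NO3S.Fld.WFour (O5)
open Cfsg.Agent.Omega.FFThm (OffM ElemM)

universe u

variable {G : Type u} [Group G] [Finite G] {S : Sylow 2 G} {P X : Subgroup G} {F : Type*} [Field F] [Finite F]
  [CharP F 2]

/-- No offender in `N ≥ S` implies `NO3b.EZero.NotFF W`. -/
theorem nff_of_noOff {W N : Subgroup G} (hSN : (S : Subgroup G) ≤ N) (hN : N ≤ normalizer (W : Set G))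
    (hno : ∀ A ≤ N, ¬ OffM W A) : NO3b.EZero.NotFF W := by
  intro A hA2 hAN hsq hcm hne
  by_contra hcon
  have hoff : OffM W A := { sq := hsq, comm := hcm, ne := hne, le := FFThm.relIndex_le_iff.2 (not_lt.1 hcon) }
  obtain ⟨g, hg, hgS⟩ := FFThm.exists_conj_le S (hSN.trans hN) hA2 hAN
  refine hno (cj g A) (hgS.trans hSN) ?_
  refine NOThreeL.VF.offM_conj (inv_mem hg) hoff fun x => ?_
  rw [mem_cj, inv_inv]

namespace Rx

variable {M : Crd F (S : Subgroup G) P (zl (S : Subgroup G) P)} (h : Rx S P X M)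
include h

/-- **(3), (4)** -/
theorem nff_or (hZ : Nat.card (zc (S : Subgroup G)) ≠ Nat.card F) {W : Subgroup G}
    (h1 : zl (S : Subgroup G) P ≤ W) (h2 : W ≤ zc (DX (S : Subgroup G) P X))
    (h3 : GX (S : Subgroup G) P X ≤ normalizer (W : Set G)) : NO3b.EZero.NotFF W ∨ W = zl (S : Subgroup G) P := by
  have hFF := FF.Glob.ffthmM.{u}
  have hWc : W ≤ centralizer (W : Set G) := h2.trans (h.V_comm.trans (centralizer_le h2))
  have hWs : ∀ x ∈ W, x ^ 2 = 1 := fun x hx => h.V_sq x (h2 hx)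
  have hWS : W ≤ (S : Subgroup G) := h2.trans h.V_le_S
  by_cases hoff : ∃ A ≤ GX (S : Subgroup G) P X, OffM W A
  · right
    obtain ⟨B, m⟩ := exists_maxMin h3 hoff
    obtain ⟨A, mA, hAS, hor⟩ := h.prin h2 m.le m.pg m.ne (𝓕 := {A | MaxMin W (GX (S : Subgroup G) P X) A})
      (fun A hA n hn => MaxMin.cj hA hn h3) m
    have mA' : MaxMin W (GX (S : Subgroup G) P X) A := mA
    rcases hor with hP | hX
    · have hne : ¬ A ≤ centralizer (zl (S : Subgroup G) P : Set G) := fun hc => hP (by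
        rw [← h.parP.inf_centralizer S h.hG]
        exact le_inf hAS hc)
      have hE : ElemM (zl (S : Subgroup G) P) A :=
        ⟨fun a ha => centralizer_le h1 (mA'.elem.sq a ha), fun a ha b hb => centralizer_le h1 (mA'.elem.comm a ha b hb)⟩
      obtain ⟨no, mo⟩ := mA'.minOff h3 h1 (noOver_line hFF h.hG h.parP (hAS.trans h.parP.le) hE hne) hne
      exact eq_of_min hFF h.hG h.parP h.P_le h.hyp.cv hWc hWs h3 h1 hWS no mo hAS hne
    · exact (h.single hZ (mA'.o5 hWc h3 hWS hAS (h.cl_le_V h3 h1) hX)).elim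
  · left
    push Not at hoff
    exact nff_of_noOff h.S_le h3 hoff

/-- `X` moves `V_P`. -/
theorem not_norm_L (hZ : Nat.card (zc (S : Subgroup G)) ≠ Nat.card F) :
    ¬ X ≤ normalizer (zl (S : Subgroup G) P : Set G) := by
  intro hXL
  have hG := h.hG
  have hP := h.parP
  have hQ : o2 P ≤ o2 X := by
    rw [← hP.inf_centralizer S hG]
    exact h.cs_le_X hXL M.R_le
  have hU : NO3b.EZero.cl (zl (S : Subgroup G) P) X ≤ zl (S : Subgroup G) P := cl_le fun x hx => by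
    rw [cj_eq_of_mem_normalizer (hXL hx)]
  obtain ⟨A₀, hA₀, hA₀Q⟩ : ∃ A ∈ BO (S : Subgroup G) (o2 P), ¬ A ≤ o2 P := by
    obtain ⟨A, hAS, hAo⟩ := h.cl.ff P h.cl.pss
    rw [← h.cl.zc_eq] at hAo
    obtain ⟨B, hBA, hB, hBne⟩ := NO1.BestOff.exists_best hAo
    refine ⟨B, ⟨hBA.trans hAS, hB⟩, fun h1 => hBne (h1.trans (Level.le_centralizer_zc _))⟩
  have hL : Fld.LevF M (o2 P) := Fld.levF hG hP M h.cl.levQ le_rfl hA₀ hA₀Q
  by_cases hall : ∀ A ∈ BO (S : Subgroup G) (o2 P), A ≤ o2 X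
  · have h1 : nxt (S : Subgroup G) (o2 P) ≤ o2 X := by
      refine sup_le ?_ (sSup_le hall)
      rw [h.cl.zc_eq, hP.inf_centralizer S hG]
      exact hQ
    exact h.mv ((hL.lev.next.le_norm_of_o2 h1 h.o2X_le).trans hL.norm_nxt)
  · push Not at hall
    obtain ⟨A, hA, hAX⟩ := hall
    have hUz : NO3b.EZero.cl (zl (S : Subgroup G) P) X ≤ zc (o2 P) := by rw [h.cl.zc_eq]; exact hU
    have hAB := hL.AB A hA
    refine h.single hZ (A := A)
      { le := hA.1
        elem := ⟨fun a ha => centralizer_le hUz (hA.2.sq a ha), fun a ha b hb => centralizer_le hUz (hA.2.comm a ha b hb)⟩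
        off := fun Y hY => Fld.Lv4.BO_le hA (hY.trans hUz)
        nQ := hAX
        quad := fun u hu a ha => ?_ }
    have h1 := hL.bl.comm a (hAB ha) u (hU hu)
    rw [mem_centralizer_iff]
    intro b hb
    exact hL.bl.cB b (hAB hb) _ h1

theorem nff_V (hZ : Nat.card (zc (S : Subgroup G)) ≠ Nat.card F) : NO3b.EZero.NotFF (zc (DX (S : Subgroup G) P X)) := by
  rcases h.nff_or hZ h.L_le le_rfl (GX_norm _ _ _) with h1 | h1
  · exact h1
  · refine absurd ?_ (h.not_norm_L hZ)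
    rw [← h1]
    exact h.X_le.trans (GX_norm _ _ _)

theorem nff_zl (hZ : Nat.card (zc (S : Subgroup G)) ≠ Nat.card F) :
    NO3b.EZero.NotFF (zl (S : Subgroup G) (GX (S : Subgroup G) P X)) := by
  rcases h.nff_or hZ h.L_le_zl h.zl_GX_le (ZN.le_normalizer_zl _ _) with h1 | h1
  · exact h1
  · refine absurd ?_ (h.not_norm_L hZ)
    rw [← h1]
    exact h.X_le.trans (ZN.le_normalizer_zl _ _)

end Rx

end Cfsg.Agent.Omega.NO3S.RedC
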