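import Cfsg.Agent.Omega.NO3S.RedC.Frame
import Cfsg.Agent.Omega.NO3S.Fld.LevEnd
import Cfsg.Agent.Omega.NO3S.Fld.WFour.Plug

/-!
# RED in the case (L) (helper284 #23199): (2) one offender

`Rx S P X M`, `|F| ≥ 4`, `|Z| ≠ |F|`; `U = ⟨V_P^X⟩`.

* `Rx.ff` : `C_U(O₂(X)) ≤ C(O²(X))` if there is an offender `A ≤ S`, `A ≰ O₂(X)` on the subgroups of `U` (`O5`);
* **`Rx.single`** : there is no such `A` (`|F| = 4`: helper749, `Fld/WFour`; `|F| ≥ 16`: `Crd.norm_R''`).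
-/

set_option autoImplicit false
set_option linter.unusedSectionVars false

namespace Cfsg.Agent.Omega.NO3S.RedC

open Subgroup Cfsg Cfsg.Agent.ZN Cfsg.Agent.ZN.ChoiceBase Cfsg.Agent.Omega.MinPar Cfsg.Agent.Omega.Frame
open Cfsg.Agent.ZN.ChoiceSit (Syl)
open Cfsg.Agent.Omega.FrameNOFF
open Cfsg.Agent.Omega.NO3b.EZero (cl cl_le le_cl cj_le_cl le_normalizer_cl oddGen_sup_syl)
open Cfsg.Agent.MinSimple.VModule (oddGen oddGen_le zc_le_zl)
open Cfsg.Agent.Omega.NO3S.Level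
open Cfsg.Agent.Omega.NO3S.Fld (Crd)
open Cfsg.Agent.Omega.NO3S.Fld.WFour (O5)

universe u

variable {G : Type u} [Group G] [Finite G] {S : Sylow 2 G} {P X : Subgroup G}
variable {F : Type*} [Field F]

namespace Rx

variable {M : Crd F (S : Subgroup G) P (zl (S : Subgroup G) P)} (h : Rx S P X M)
include h

/-- `U = ⟨V^X⟩ ≤ ⟨V^{C_G(Z)}⟩` -/
theorem U_le_WW : NO3b.EZero.cl (zl (S : Subgroup G) P) X ≤ WW (S : Subgroup G) P :=
  cl_le fun _ hx => conj_zl_le_WW (h.le hx)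

theorem U_comm : NO3b.EZero.cl (zl (S : Subgroup G) P) X ≤ centralizer (NO3b.EZero.cl (zl (S : Subgroup G) P) X : Set G) :=
  (h.U_le_WW.trans h.hyp.W_comm).trans (centralizer_le h.U_le_WW)

theorem U_sq : ∀ u ∈ NO3b.EZero.cl (zl (S : Subgroup G) P) X, u ^ 2 = 1 := fun u hu => h.hyp.W_sq u (h.U_le_WW hu)

theorem U_norm : X ≤ normalizer (NO3b.EZero.cl (zl (S : Subgroup G) P) X : Set G) := le_normalizer_cl _ _

theorem U_le_S : NO3b.EZero.cl (zl (S : Subgroup G) P) X ≤ (S : Subgroup G) := Crd.cl_le_S h.hyp h.S_X h.le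

theorem R_le_U : NO3b.EZero.cl M.R X ≤ NO3b.EZero.cl (zl (S : Subgroup G) P) X :=
  cl_le fun _ hp => (cj_mono _ M.R_le).trans (cj_le_cl hp)

/-- `Z ≤ C(X)` -/
theorem mem_cent {y : G} (hyS : y ∈ (S : Subgroup G)) (hy2 : y ^ 2 = 1) (hy : y ∈ centralizer ((S : Subgroup G) : Set G)) :
    y ∈ centralizer (oddGen X : Set G) := by
  have h1 : y ∈ zc (S : Subgroup G) := ZN.mem_zc.2 ⟨hyS, fun b hb => mem_centralizer_iff.1 hy b hb, hy2⟩
  rw [mem_centralizer_iff]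
  intro x hx
  exact (mem_centralizer_iff.1 (h.le (oddGen_le X hx)) y h1).symm

/-- The FF-LEMMA. -/
theorem ff {A : Subgroup G} (o : O5 S P X A) :
    NO3b.EZero.cl (zl (S : Subgroup G) P) X ⊓ centralizer (o2 X : Set G) ≤ centralizer (oddGen X : Set G) := by
  have hYU : NO3b.EZero.cl (zl (S : Subgroup G) P) X ⊓ centralizer (o2 X : Set G) ≤ NO3b.EZero.cl (zl (S : Subgroup G) P) X := inf_le_left
  refine Fld.ff_lemma_off FF.Glob.aStmt h.syl h.par.toIsMinPar (hYU.trans (h.U_le_S.trans h.S_X))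
    (fun y hy => h.U_sq y (hYU hy)) (hYU.trans (h.U_comm.trans (centralizer_le hYU)))
    (NotFF.normalizer_inf h.U_norm (NotFF.normalizer_centralizer (ZN.le_normalizer_o2 X)))
    (le_centralizer_iff.1 inf_le_right) ?_ o.le o.nQ
    ⟨fun a ha => centralizer_le hYU (o.elem.sq a ha), fun a ha b hb => centralizer_le hYU (o.elem.comm a ha b hb)⟩
    (FFThm.relIndex_le_iff.2 (o.off _ hYU))
  rintro y ⟨hy, hyS⟩
  exact h.mem_cent (h.U_le_S (hYU hy)) (h.U_sq y (hYU hy)) hyS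

/-- `O₂(X)` moves `R`. -/
theorem nQR {A : Subgroup G} (o : O5 S P X A) : ¬ o2 X ≤ centralizer (M.R : Set G) := by
  intro h0
  apply h.mv
  have h1 : M.R ≤ NO3b.EZero.cl (zl (S : Subgroup G) P) X ⊓ centralizer (o2 X : Set G) :=
    le_inf (M.R_le.trans (le_cl _ _)) (le_centralizer_iff.1 h0)
  have h2 : oddGen X ≤ centralizer (M.R : Set G) := le_centralizer_iff.1 (h1.trans (h.ff o))
  rw [← oddGen_sup_syl h.syl]
  exact sup_le (h2.trans (centralizer_le_normalizer _)) M.S_R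

/-- **(2)** -/
theorem single [Finite F] [CharP F 2] (hF : Nat.card (zc (S : Subgroup G)) ≠ Nat.card F) {A : Subgroup G}
    (o : O5 S P X A) : False := by
  rcases Fld.card_four_or' h.hyp M hF with h4 | h16
  · exact Fld.WFour.false_of_o5 h.cl.hypF M h4 (by rwa [h4] at hF) h.par h.le h.mv (h.nQR o) o
  · refine h.mv (Crd.norm_R'' h.hyp M h16 (NO3b.K0.noOv FF.Glob.aStmt h.syl h.par.toIsMinPar) h.par.toIsMinPar h.le ?_
      o.le ⟨o.elem.sq, o.elem.comm⟩ o.off o.nQ)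
    refine le_trans (le_inf (inf_le_left.trans h.R_le_U) (inf_le_right.trans ?_)) (h.ff o)
    exact ZN.zc_le_centralizer _

end Rx

end Cfsg.Agent.Omega.NO3S.RedC
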